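import Mathlib.LinearAlgebra.ExteriorPower.Basis
import Mathlib.LinearAlgebra.CliffordAlgebra.Contraction
import Mathlib.RingTheory.Derivation.Basic
import Groth.Prelude.Def_DeRham

/-!
The Euler contracting homotopy on forms with coordinates `X i`, `δ (X i) = e i`.
-/

universe u
open exteriorPower

noncomputable section

namespace Groth.Agent.DRPoincare

variable {A M : Type u} [CommRing A] [AddCommGroup M] [Module A M]

/-- Left multiplication by a one-form. -/
def wedge (q : ℕ) (m : M) : ↥(⋀[A]^q M) →ₗ[A] ↥(⋀[A]^(q + 1) M) :=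
  alternatingMapLinearEquiv ((ιMulti A (q + 1)).curryLeft m)

lemma wedge_ιMulti (q : ℕ) (m : M) (v : Fin q → M) :
    wedge q m (ιMulti A q v) = ιMulti A (q + 1) (Fin.cons m v) := by
  rw [wedge, alternatingMapLinearEquiv_apply_ιMulti]
  rfl

lemma coe_wedge (q : ℕ) (m : M) (x : ↥(⋀[A]^q M)) :
    (wedge q m x : ExteriorAlgebra A M) = ExteriorAlgebra.ι A m * x := by
  suffices h : (Submodule.subtype _) ∘ₗ wedge q m =
      (LinearMap.mulLeft A (ExteriorAlgebra.ι A m)) ∘ₗ Submodule.subtype _ from congr($h x)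
  refine linearMap_ext (AlternatingMap.ext fun v => ?_)
  simp only [LinearMap.compAlternatingMap_apply, LinearMap.coe_comp, Function.comp_apply,
    Submodule.coe_subtype, LinearMap.mulLeft_apply, wedge_ιMulti, ιMulti_apply_coe,
    ExteriorAlgebra.ιMulti_apply, List.ofFn_succ, List.prod_cons, Fin.cons_zero, Fin.cons_succ]

lemma wedge_add (q : ℕ) (m m' : M) (x : ↥(⋀[A]^q M)) :
    wedge q (m + m') x = wedge q m x + wedge q m' x := by
  apply Subtype.ext
  rw [Submodule.coe_add, coe_wedge, coe_wedge, coe_wedge, map_add, add_mul]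

lemma wedge_smul (q : ℕ) (a : A) (m : M) (x : ↥(⋀[A]^q M)) :
    wedge q (a • m) x = a • wedge q m x := by
  apply Subtype.ext
  rw [Submodule.coe_smul, coe_wedge, coe_wedge, map_smul, smul_mul_assoc]

lemma wedge_zero (q : ℕ) (x : ↥(⋀[A]^q M)) : wedge q (0 : M) x = 0 := by
  apply Subtype.ext
  rw [coe_wedge, map_zero, zero_mul, Submodule.coe_zero]

lemma wedge_wedge (q : ℕ) (m m' : M) (x : ↥(⋀[A]^q M)) :
    wedge (q + 1) m (wedge q m' x) = - wedge (q + 1) m' (wedge q m x) := by
  apply Subtype.ext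
  rw [Submodule.coe_neg, coe_wedge, coe_wedge, coe_wedge, coe_wedge, ← mul_assoc, ← mul_assoc,
    ← neg_mul, eq_neg_of_add_eq_zero_left (ExteriorAlgebra.ι_add_mul_swap m m')]

lemma contractLeft_mem (φ : Module.Dual A M) :
    ∀ (q : ℕ) (x : ExteriorAlgebra A M), x ∈ ⋀[A]^(q + 1) M →
      CliffordAlgebra.contractLeft φ x ∈ ⋀[A]^q M
  | 0, x, hx => by
    rw [ExteriorAlgebra.exteriorPower, pow_one] at hx
    obtain ⟨m, rfl⟩ := hx
    rw [ExteriorAlgebra.exteriorPower, pow_zero]
    exact Submodule.mem_one.2 ⟨φ m, (CliffordAlgebra.contractLeft_ι _ _ m).symm⟩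
  | q + 1, x, hx => by
    rw [ExteriorAlgebra.exteriorPower, pow_succ'] at hx
    induction hx using Submodule.mul_induction_on' with
    | mem_mul_mem a ha b hb =>
      obtain ⟨m, rfl⟩ := ha
      rw [CliffordAlgebra.contractLeft_ι_mul]
      refine Submodule.sub_mem _ (Submodule.smul_mem _ _ hb) ?_
      change _ ∈ LinearMap.range (ExteriorAlgebra.ι A) ^ (q + 1)
      rw [pow_succ']
      exact Submodule.mul_mem_mul (LinearMap.mem_range_self _ _) (contractLeft_mem φ q b hb)
    | add a _ b _ ha hb => rw [map_add]; exact Submodule.add_mem _ ha hb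

/-- Contraction with a linear form. -/
def contr (φ : Module.Dual A M) (q : ℕ) : ↥(⋀[A]^(q + 1) M) →ₗ[A] ↥(⋀[A]^q M) :=
  LinearMap.codRestrict _ ((CliffordAlgebra.contractLeft φ).comp (Submodule.subtype _))
    fun x => contractLeft_mem φ q x x.2

lemma contr_wedge_zero (φ : Module.Dual A M) (m : M) (x : ↥(⋀[A]^0 M)) :
    contr φ 0 (wedge 0 m x) = φ m • x := by
  apply Subtype.ext
  change CliffordAlgebra.contractLeft φ (wedge 0 m x : ExteriorAlgebra A M) = _
  rw [coe_wedge, CliffordAlgebra.contractLeft_ι_mul, Submodule.coe_smul]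
  obtain ⟨a, ha⟩ := Submodule.mem_one.1
    (show (x : ExteriorAlgebra A M) ∈ (1 : Submodule A (ExteriorAlgebra A M)) from
      pow_zero (LinearMap.range (ExteriorAlgebra.ι A (M := M))) ▸ x.2)
  rw [show CliffordAlgebra.contractLeft φ (x : ExteriorAlgebra A M) = 0 from
    ha ▸ CliffordAlgebra.contractLeft_algebraMap _ _ a, mul_zero, sub_zero]

lemma contr_wedge (φ : Module.Dual A M) (q : ℕ) (m : M) (x : ↥(⋀[A]^(q + 1) M)) :
    contr φ (q + 1) (wedge (q + 1) m x) = φ m • x - wedge q m (contr φ q x) := by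
  apply Subtype.ext
  change CliffordAlgebra.contractLeft φ (wedge (q + 1) m x : ExteriorAlgebra A M) = _
  rw [coe_wedge, CliffordAlgebra.contractLeft_ι_mul, Submodule.coe_sub, Submodule.coe_smul, coe_wedge]
  rfl

section Euler

variable {R : Type u} [CommRing R] [Algebra R A] [Module R M] [IsScalarTower R A M]
  {σ : Type u} (δ : Derivation R A M) (X : σ → A)

/-- A monomial form. -/
def mon (q : ℕ) (b : Fin q → σ) : ↥(⋀[A]^q M) := ιMulti A q fun i => δ (X (b i))

lemma mon_cons (q : ℕ) (i : σ) (b : Fin q → σ) :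
    mon δ X (q + 1) (Fin.cons i b) = wedge q (δ (X i)) (mon δ X q b) := by
  rw [mon, mon, wedge_ιMulti]
  congr 1
  funext j
  refine Fin.cases ?_ (fun j => ?_) j <;> simp

variable {δ X} (hspan : Submodule.span A (Set.range fun i => δ (X i)) = ⊤)
  {d : ∀ p : ℕ, ↥(⋀[A]^p M) →ₗ[R] ↥(⋀[A]^(p + 1) M)} (hd : DeRham.IsRule δ d)

include hspan in
lemma induction_mon {q : ℕ} {P : ↥(⋀[A]^q M) → Prop} (h0 : P 0)
    (hadd : ∀ x y, P x → P y → P (x + y))
    (hgen : ∀ (f : A) (b : Fin q → σ), P (f • mon δ X q b)) (x : ↥(⋀[A]^q M)) : P x := by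
  have hx : x ∈ Submodule.span A (Set.range (mon δ X q)) := by
    refine (?_ : ⊤ ≤ Submodule.span A _) (Submodule.mem_top (x := x))
    rw [← ιMulti_span_of_span A q M hspan]
    refine Submodule.span_mono ?_
    rintro _ ⟨v, hv, rfl⟩
    choose b hb using fun i => hv (Set.mem_range_self i)
    exact ⟨b, congrArg _ (funext hb)⟩
  suffices h : ∀ a : A, P (a • x) by simpa using h 1
  induction hx using Submodule.span_induction with
  | zero => intro a; rwa [smul_zero]
  | add u v _ _ hu hv => intro a; rw [smul_add]; exact hadd _ _ (hu a) (hv a)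
  | smul c u _ hu => intro a; rw [smul_smul]; exact hu _
  | mem z hz => obtain ⟨b, rfl⟩ := hz; exact fun a => hgen a b

include hd in
lemma d_smul_mon (q : ℕ) (f : A) (b : Fin q → σ) :
    d q (f • mon δ X q b) = wedge q (δ f) (mon δ X q b) := by
  rw [mon, wedge_ιMulti]
  exact hd q f fun i => X (b i)

include hd in
lemma d_mon (q : ℕ) (b : Fin q → σ) : d q (mon δ X q b) = 0 := by
  have h := d_smul_mon (X := X) hd q 1 b
  rwa [one_smul, δ.map_one_eq_zero, wedge_zero] at h

include hspan hd in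
lemma d_smul (q : ℕ) (f : A) (x : ↥(⋀[A]^q M)) :
    d q (f • x) = f • d q x + wedge q (δ f) x := by
  induction x using induction_mon hspan with
  | h0 => simp
  | hadd x y hx hy => rw [smul_add, map_add, hx, hy, map_add, map_add, smul_add]; abel
  | hgen g b =>
    rw [smul_smul, d_smul_mon hd, d_smul_mon hd, δ.leibniz, wedge_add, wedge_smul, wedge_smul,
      map_smul]

include hspan hd in
lemma d_wedge (q : ℕ) (i : σ) (x : ↥(⋀[A]^q M)) :
    d (q + 1) (wedge q (δ (X i)) x) = - wedge (q + 1) (δ (X i)) (d q x) := by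
  induction x using induction_mon hspan with
  | h0 => simp
  | hadd x y hx hy => simp only [map_add, hx, hy, neg_add]
  | hgen g b =>
    rw [map_smul, ← mon_cons, d_smul_mon hd, d_smul_mon hd, mon_cons, wedge_wedge]

variable (φ : Module.Dual A M) (hφ : ∀ i, φ (δ (X i)) = X i)

include hspan hd hφ in
lemma d_contr_mon : ∀ (q : ℕ) (b : Fin (q + 1) → σ),
    d q (contr φ q (mon δ X (q + 1) b)) = ((q + 1 : ℕ) : A) • mon δ X (q + 1) b
  | 0, b => by
    rw [← Fin.cons_self_tail b, mon_cons, contr_wedge_zero, hφ, d_smul_mon hd]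
    simp
  | q + 1, b => by
    rw [← Fin.cons_self_tail b, mon_cons, contr_wedge, hφ, map_sub, d_smul hspan hd, d_mon hd,
      smul_zero, zero_add, d_wedge hspan hd, sub_neg_eq_add, d_contr_mon q, map_smul,
      Nat.cast_succ (q + 1), add_smul, one_smul]
    exact add_comm _ _

include hspan hd hφ in
lemma lie_smul_mon (q : ℕ) (f : A) (b : Fin (q + 1) → σ) :
    d q (contr φ q (f • mon δ X (q + 1) b)) + contr φ (q + 1) (d (q + 1) (f • mon δ X (q + 1) b)) =
      (φ (δ f) + ((q + 1 : ℕ) : A) * f) • mon δ X (q + 1) b := by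
  rw [map_smul, d_smul hspan hd, d_contr_mon hspan hd φ hφ, d_smul_mon hd, contr_wedge, add_smul,
    smul_smul, mul_comm]
  abel

end Euler

end Groth.Agent.DRPoincare
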