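import Groth.Agent.DRPoincare.Basic
import Groth.Agent.DRKaehler.BaseChange

/-!
The homotopy `A[X] → A` for de Rham complexes over a `ℚ`-algebra.
-/

set_option autoImplicit false
set_option linter.style.haveILetI false
set_option linter.unusedSectionVars false
universe u

open exteriorPower TensorProduct Polynomial

noncomputable section

namespace Groth.Agent.DRPoincare.Poly

open Groth.Agent.DRKaehler (formMap formMap_gen)
open Groth.Agent.DRPoincare

attribute [local instance] Polynomial.algebra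

variable {R A : Type u} [CommRing R] [CommRing A] [Algebra R A]

/-- The forms of `A` in those of `A[X]`. -/
def incl (p : ℕ) : ↥(⋀[A]^p (Ω[A⁄R])) →ₗ[A] ↥(⋀[A[X]]^p (Ω[A[X]⁄R])) := formMap R A R A[X] p

theorem incl_gen (p : ℕ) (b₀ : A) (b : Fin p → A) :
    incl p (DeRham.gen (KaehlerDifferential.D R A) p b₀ b) = DeRham.gen (KaehlerDifferential.D R A[X]) p (C b₀) (fun i => C (b i)) :=
  formMap_gen p b₀ b

theorem incl_smul (p : ℕ) (a : A) (ω : ↥(⋀[A]^p (Ω[A⁄R]))) : incl p (a • ω) = C a • incl p ω := by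
  rw [map_smul, ← IsScalarTower.algebraMap_smul A[X] a (incl p ω)]
  rfl

theorem incl_wedge (p : ℕ) (a : A) (ω : ↥(⋀[A]^p (Ω[A⁄R]))) :
    incl (p + 1) (wedge p ((KaehlerDifferential.D R A) a) ω) = wedge p ((KaehlerDifferential.D R A[X]) (C a)) (incl p ω) := by
  induction ω using Groth.Agent.DRKaehler.induction with
  | h0 => simp
  | hadd x y hx hy => simp only [map_add, hx, hy]
  | hgen b₀ b =>
    rw [incl_gen, DeRham.gen, DeRham.gen, map_smul (wedge p ((KaehlerDifferential.D R A) a)), map_smul (wedge p ((KaehlerDifferential.D R A[X]) (C a))), wedge_ιMulti,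
      wedge_ιMulti, incl_smul]
    congr 1
    rw [incl, Groth.Agent.DRKaehler.formMap_ιMulti]
    congr 1
    funext i
    refine Fin.cases ?_ (fun j => ?_) i
    · simp only [Fin.cons_zero]; exact KaehlerDifferential.map_D R R A A[X] a
    · simp only [Fin.cons_succ]; exact KaehlerDifferential.map_D R R A A[X] (b j)

/-- The coordinates: the constants and `X`. -/
def coord : Option A → A[X] := fun i => i.elim X C

theorem hspan : Submodule.span A[X] (Set.range fun i : Option A => (KaehlerDifferential.D R A[X]) (coord i)) = ⊤ := by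
  rw [eq_top_iff, ← KaehlerDifferential.span_range_derivation R A[X], Submodule.span_le]
  rintro _ ⟨f, rfl⟩
  induction f using Polynomial.induction_on with
  | C a => exact Submodule.subset_span ⟨some a, rfl⟩
  | add f g hf hg => rw [map_add]; exact add_mem hf hg
  | monomial n a ih =>
    rw [pow_succ, ← mul_assoc, Derivation.leibniz]
    exact add_mem (Submodule.smul_mem _ _ (Submodule.subset_span ⟨none, rfl⟩)) (Submodule.smul_mem _ _ ih)

theorem wedge_self (q : ℕ) (m : Ω[A[X]⁄R]) (x : ↥(⋀[A[X]]^q (Ω[A[X]⁄R]))) : wedge (q + 1) m (wedge q m x) = 0 := by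
  apply Subtype.ext
  rw [coe_wedge, coe_wedge, ← mul_assoc, ExteriorAlgebra.ι_sq_zero, zero_mul, Submodule.coe_zero]

/-- Either a constant form or `dX` times a constant form. -/
def Std : (q : ℕ) → ↥(⋀[A[X]]^q (Ω[A[X]⁄R])) → Prop
  | 0, z => ∃ ω, z = incl 0 ω
  | q + 1, z => (∃ ω, z = incl (q + 1) ω) ∨ ∃ ω, z = wedge q ((KaehlerDifferential.D R A[X]) (X : A[X])) (incl q ω)

theorem std_of_incl (q : ℕ) (ω : ↥(⋀[A]^q (Ω[A⁄R]))) : Std q (incl q ω) := by
  cases q with
  | zero => exact ⟨ω, rfl⟩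
  | succ q => exact Or.inl ⟨ω, rfl⟩

theorem std_mon : ∀ (q : ℕ) (b : Fin q → Option A), Std q (mon (KaehlerDifferential.D R A[X]) coord q b)
  | 0, b => ⟨DeRham.gen (KaehlerDifferential.D R A) 0 1 Fin.elim0, by
      rw [incl_gen, map_one, DeRham.gen, one_smul, mon]
      congr 1
      funext i
      exact i.elim0⟩
  | q + 1, b => by
    rw [← Fin.cons_self_tail b, mon_cons]
    have ih := std_mon q (Fin.tail b)
    generalize mon (KaehlerDifferential.D R A[X]) coord q (Fin.tail b) = z at ih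
    cases q with
    | zero =>
      obtain ⟨ω, rfl⟩ := ih
      rcases b 0 with _ | a
      · exact Or.inr ⟨ω, rfl⟩
      · exact Or.inl ⟨wedge 0 ((KaehlerDifferential.D R A) a) ω, (incl_wedge 0 a ω).symm⟩
    | succ q =>
      rcases ih with ⟨ω, rfl⟩ | ⟨ω, rfl⟩
      · rcases b 0 with _ | a
        · exact Or.inr ⟨ω, rfl⟩
        · exact Or.inl ⟨wedge (q + 1) ((KaehlerDifferential.D R A) a) ω, (incl_wedge _ a ω).symm⟩
      · rcases b 0 with _ | a
        · refine Or.inr ⟨0, ?_⟩
          rw [map_zero, map_zero]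
          exact wedge_self q _ _
        · refine Or.inr ⟨-wedge q ((KaehlerDifferential.D R A) a) ω, ?_⟩
          rw [map_neg, map_neg, incl_wedge, wedge_wedge]
          rfl

/-- Induction on forms on `A[X]`. -/
theorem induction_std {q : ℕ} {P : ↥(⋀[A[X]]^q (Ω[A[X]⁄R])) → Prop} (h0 : P 0)
    (hadd : ∀ x y, P x → P y → P (x + y)) (h1 : ∀ (j : ℕ) (ω : ↥(⋀[A]^q (Ω[A⁄R]))), P ((X : A[X]) ^ j • incl q ω))
    (h2 : ∀ (q' : ℕ) (he : q' + 1 = q) (j : ℕ) (ω : ↥(⋀[A]^q' (Ω[A⁄R]))),
      P (he ▸ ((X : A[X]) ^ j • wedge q' ((KaehlerDifferential.D R A[X]) (X : A[X])) (incl q' ω))))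
    (x : ↥(⋀[A[X]]^q (Ω[A[X]⁄R]))) : P x := by
  refine induction_mon (hspan (R := R) (A := A)) h0 hadd (fun f b => ?_) x
  have hstd := std_mon (R := R) q b
  generalize mon (KaehlerDifferential.D R A[X]) coord q b = z at hstd
  induction f using Polynomial.induction_on' with
  | add f g hf hg => rw [add_smul]; exact hadd _ _ hf hg
  | monomial j a =>
    rw [← C_mul_X_pow_eq_monomial, mul_comm, mul_smul]
    cases q with
    | zero =>
      obtain ⟨ω, rfl⟩ := hstd
      rw [← incl_smul]; exact h1 j _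
    | succ q =>
      rcases hstd with ⟨ω, rfl⟩ | ⟨ω, rfl⟩
      · rw [← incl_smul]; exact h1 j _
      · rw [← map_smul, ← incl_smul]; exact h2 q rfl j _

/-- `∂/∂X` as a linear form on differentials. -/
def dX : Module.Dual A[X] (Ω[A[X]⁄R]) :=
  (((derivative' : Derivation A A[X] A[X]).restrictScalars R).liftKaehlerDifferential)

theorem dX_X : dX (R := R) ((KaehlerDifferential.D R A[X]) (X : A[X])) = 1 := by
  rw [dX, Derivation.liftKaehlerDifferential_comp_D]; simp

theorem dX_C (a : A) : dX (R := R) ((KaehlerDifferential.D R A[X]) (C a)) = 0 := by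
  rw [dX, Derivation.liftKaehlerDifferential_comp_D]; simp

theorem contr_gen_C : ∀ (q : ℕ) (b : Fin (q + 1) → A),
    contr (dX (R := R)) q (ιMulti A[X] (q + 1) fun i => (KaehlerDifferential.D R A[X]) (C (b i))) = 0
  | 0, b => by
    rw [show (fun i => (KaehlerDifferential.D R A[X]) (C (b i))) = Fin.cons ((KaehlerDifferential.D R A[X]) (C (b 0))) (fun i : Fin 0 => (KaehlerDifferential.D R A[X]) (C (Fin.tail b i))) from
      funext fun i => by refine Fin.cases ?_ (fun j => j.elim0) i; simp, ← wedge_ιMulti, contr_wedge_zero, dX_C, zero_smul]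
  | q + 1, b => by
    rw [show (fun i => (KaehlerDifferential.D R A[X]) (C (b i))) = Fin.cons ((KaehlerDifferential.D R A[X]) (C (b 0))) (fun i => (KaehlerDifferential.D R A[X]) (C (Fin.tail b i))) from
      funext fun i => by refine Fin.cases ?_ (fun j => ?_) i <;> simp [Fin.tail], ← wedge_ιMulti, contr_wedge, dX_C,
      zero_smul, contr_gen_C q, map_zero, sub_zero]

theorem contr_incl (q : ℕ) (ω : ↥(⋀[A]^(q + 1) (Ω[A⁄R]))) : contr (dX (R := R)) q (incl (q + 1) ω) = 0 := by
  induction ω using Groth.Agent.DRKaehler.induction with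
  | h0 => simp
  | hadd x y hx hy => simp only [map_add, hx, hy, add_zero]
  | hgen b₀ b => rw [incl_gen, DeRham.gen, map_smul, contr_gen_C, smul_zero]

theorem contr_dX_incl : ∀ (q : ℕ) (ω : ↥(⋀[A]^q (Ω[A⁄R]))),
    contr (dX (R := R)) q (wedge q ((KaehlerDifferential.D R A[X]) (X : A[X])) (incl q ω)) = incl q ω
  | 0, ω => by rw [contr_wedge_zero, dX_X, one_smul]
  | q + 1, ω => by rw [contr_wedge, dX_X, one_smul, contr_incl, map_zero, sub_zero]

variable (R A) in
/-- Relative forms are constant forms with polynomial coefficients. -/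
def relEquiv (p : ℕ) : A[X] ⊗[A] ↥(⋀[A]^p (Ω[A⁄R])) ≃ₗ[A[X]] ↥(⋀[A[X]]^p (Ω[A[X]⁄R[X]])) :=
  LinearEquiv.ofBijective ((formMap R A R[X] A[X] p).liftBaseChange A[X])
    (Groth.Agent.DRKaehler.formMap_liftBaseChange_bijective R R[X] A A[X] p)

/-- Forms to constant forms with polynomial coefficients. -/
def red (p : ℕ) : ↥(⋀[A[X]]^p (Ω[A[X]⁄R])) →ₗ[A[X]] A[X] ⊗[A] ↥(⋀[A]^p (Ω[A⁄R])) :=
  (relEquiv R A p).symm.toLinearMap ∘ₗ formMap R A[X] R[X] A[X] p

theorem red_incl (p : ℕ) (ω : ↥(⋀[A]^p (Ω[A⁄R]))) : red p (incl p ω) = 1 ⊗ₜ ω := by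
  rw [red, LinearMap.comp_apply, LinearEquiv.coe_coe, LinearEquiv.symm_apply_eq]
  show _ = (formMap R A R[X] A[X] p).liftBaseChange A[X] (1 ⊗ₜ ω)
  rw [LinearMap.liftBaseChange_tmul, one_smul]
  induction ω using Groth.Agent.DRKaehler.induction with
  | h0 => simp
  | hadd x y hx hy => simp only [map_add, hx, hy]
  | hgen b₀ b => rw [incl_gen, formMap_gen, formMap_gen]; rfl

variable [Algebra ℚ R]

/-- `1 / (j + 1)` -/
def invSucc (j : ℕ) : A := algebraMap R A (algebraMap ℚ R (((j + 1 : ℕ) : ℚ)⁻¹))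

theorem invSucc_spec (j : ℕ) : ((j + 1 : ℕ) : A) * invSucc (R := R) j = 1 := by
  rw [invSucc, ← map_natCast (algebraMap R A), ← map_natCast (algebraMap ℚ R), ← map_mul, ← map_mul,
    mul_inv_cancel₀ (Nat.cast_ne_zero.mpr (Nat.succ_ne_zero j)), map_one, map_one]

variable (R A) in
/-- Integration. -/
def integral : A[X] →ₗ[A] A[X] :=
  (Polynomial.basisMonomials A).constr A fun j => monomial (j + 1) (invSucc (R := R) j)

theorem integral_X_pow (j : ℕ) : integral R A ((X : A[X]) ^ j) = monomial (j + 1) (invSucc (R := R) j) := by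
  rw [integral, X_pow_eq_monomial]
  have h : (Polynomial.basisMonomials A) j = monomial j 1 := by simp
  rw [← h, Module.Basis.constr_basis]

variable (R A) in
/-- The homotopy. -/
def htpy (p : ℕ) : ↥(⋀[A[X]]^(p + 1) (Ω[A[X]⁄R])) →+ ↥(⋀[A[X]]^p (Ω[A[X]⁄R])) :=
  (((incl (R := R) (A := A) p).liftBaseChange A[X]).toAddMonoidHom).comp
    (((LinearMap.rTensor _ (integral R A)).toAddMonoidHom).comp
      ((red p).toAddMonoidHom.comp (contr (dX (R := R)) p).toAddMonoidHom))

theorem htpy_smul_incl (p j : ℕ) (ω : ↥(⋀[A]^(p + 1) (Ω[A⁄R]))) :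
    htpy R A p ((X : A[X]) ^ j • incl (p + 1) ω) = 0 := by
  simp [htpy, contr_incl]

theorem htpy_smul_dX (p j : ℕ) (ω : ↥(⋀[A]^p (Ω[A⁄R]))) :
    htpy R A p ((X : A[X]) ^ j • wedge (A := A[X]) p (KaehlerDifferential.D R A[X] (X : A[X])) (incl (R := R) p ω)) =
      monomial (j + 1) (invSucc (R := R) (A := A) j) • incl (R := R) p ω := by
  simp only [htpy, AddMonoidHom.coe_comp, LinearMap.toAddMonoidHom_coe, Function.comp_apply, map_smul,
    contr_dX_incl, red_incl, TensorProduct.smul_tmul', smul_eq_mul, mul_one, LinearMap.rTensor_tmul,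
    integral_X_pow, LinearMap.liftBaseChange_tmul]

variable {d : ∀ p : ℕ, ↥(⋀[A]^p (Ω[A⁄R])) →ₗ[R] ↥(⋀[A]^(p + 1) (Ω[A⁄R]))} (hd : DeRham.IsRule (KaehlerDifferential.D R A) d)
  {d' : ∀ p : ℕ, ↥(⋀[A[X]]^p (Ω[A[X]⁄R])) →ₗ[R] ↥(⋀[A[X]]^(p + 1) (Ω[A[X]⁄R]))} (hd' : DeRham.IsRule (KaehlerDifferential.D R A[X]) d')

include hd hd' in
theorem d_incl (p : ℕ) (ω : ↥(⋀[A]^p (Ω[A⁄R]))) : d' p (incl p ω) = incl (p + 1) (d p ω) :=
  (Groth.Agent.DRKaehler.isCxMap_comm d hd d' hd' (fun p => (incl p).toAddMonoidHom) incl_gen p ω).symm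

include hd' in
theorem d_smul' (q : ℕ) (f : A[X]) (x : ↥(⋀[A[X]]^q (Ω[A[X]⁄R]))) :
    d' q (f • x) = f • d' q x + wedge q ((KaehlerDifferential.D R A[X]) f) x :=
  d_smul (hspan (R := R) (A := A)) hd' q f x

include hd' in
theorem d_dX (q : ℕ) (x : ↥(⋀[A[X]]^q (Ω[A[X]⁄R]))) :
    d' (q + 1) (wedge q ((KaehlerDifferential.D R A[X]) (X : A[X])) x) = - wedge (q + 1) ((KaehlerDifferential.D R A[X]) (X : A[X])) (d' q x) :=
  d_wedge (hspan (R := R) (A := A)) hd' q none x

section Eval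

/-- Evaluation at `0`. -/
def evalZero (p : ℕ) : ↥(⋀[A[X]]^p (Ω[A[X]⁄R])) →+ ↥(⋀[A]^p (Ω[A⁄R])) :=
  letI : Algebra A[X] A := (aeval (0 : A)).toRingHom.toAlgebra
  haveI : IsScalarTower R A[X] A := IsScalarTower.of_algebraMap_eq fun r => by
    show _ = aeval (0 : A) (algebraMap R A[X] r)
    rw [IsScalarTower.algebraMap_apply R A A[X]]; simp
  (formMap R A[X] R A p).toAddMonoidHom

theorem isCxMap_evalZero :
    DeRham.IsCxMap (KaehlerDifferential.D R A[X]) (KaehlerDifferential.D R A) (aeval (0 : A)).toRingHom (fun p => evalZero (R := R) p) := by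
  intro p b₀ b
  letI : Algebra A[X] A := (aeval (0 : A)).toRingHom.toAlgebra
  haveI : IsScalarTower R A[X] A := IsScalarTower.of_algebraMap_eq fun r => by
    show _ = aeval (0 : A) (algebraMap R A[X] r)
    rw [IsScalarTower.algebraMap_apply R A A[X]]; simp
  exact formMap_gen p b₀ b

theorem evalZero_smul (p : ℕ) (f : A[X]) (x : ↥(⋀[A[X]]^p (Ω[A[X]⁄R]))) :
    evalZero p (f • x) = f.eval 0 • evalZero p x := by
  induction x using Groth.Agent.DRKaehler.induction with
  | h0 => simp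
  | hadd x y hx hy => simp only [smul_add, map_add, hx, hy]
  | hgen b₀ b =>
    have h1 : f • DeRham.gen (KaehlerDifferential.D R A[X]) p b₀ b = DeRham.gen (KaehlerDifferential.D R A[X]) p (f * b₀) b := smul_smul _ _ _
    rw [h1, isCxMap_evalZero, isCxMap_evalZero, DeRham.gen, DeRham.gen, map_mul, mul_smul]
    simp [← Polynomial.coe_aeval_eq_eval]

theorem evalZero_incl (p : ℕ) (ω : ↥(⋀[A]^p (Ω[A⁄R]))) : evalZero p (incl p ω) = ω := by
  induction ω using Groth.Agent.DRKaehler.induction with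
  | h0 => simp
  | hadd x y hx hy => simp only [map_add, hx, hy]
  | hgen b₀ b => rw [incl_gen, isCxMap_evalZero]; simp

theorem evalZero_dX (p : ℕ) (ω : ↥(⋀[A]^p (Ω[A⁄R]))) :
    evalZero (p + 1) (wedge p ((KaehlerDifferential.D R A[X]) (X : A[X])) (incl p ω)) = 0 := by
  induction ω using Groth.Agent.DRKaehler.induction with
  | h0 => simp
  | hadd x y hx hy => simp only [map_add, hx, hy, add_zero]
  | hgen b₀ b =>
    rw [incl_gen, DeRham.gen, map_smul, wedge_ιMulti]
    have h := isCxMap_evalZero (R := R) (p + 1) (C b₀) (Fin.cons X fun i => C (b i))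
    rw [DeRham.gen, DeRham.gen] at h
    refine Eq.trans (congrArg (fun v => evalZero (p + 1) (C b₀ • ιMulti A[X] (p + 1) v)) ?_) (h.trans ?_)
    · funext i; refine Fin.cases ?_ (fun j => ?_) i <;> simp
    · rw [(ιMulti A (p + 1)).map_coord_zero 0 (by simp), smul_zero]

include hd hd' in
theorem evalZero_d (p : ℕ) (x : ↥(⋀[A[X]]^p (Ω[A[X]⁄R]))) : evalZero (p + 1) (d' p x) = d p (evalZero p x) := by
  letI : Algebra A[X] A := (aeval (0 : A)).toRingHom.toAlgebra
  haveI : IsScalarTower R A[X] A := IsScalarTower.of_algebraMap_eq fun r => by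
    show _ = aeval (0 : A) (algebraMap R A[X] r)
    rw [IsScalarTower.algebraMap_apply R A A[X]]; simp
  exact Groth.Agent.DRKaehler.isCxMap_comm d' hd' d hd (fun p => evalZero p) isCxMap_evalZero p x

end Eval

theorem δ_monomial (j : ℕ) (c : A) :
    (KaehlerDifferential.D R A[X]) (monomial (j + 1) c) = (X : A[X]) ^ (j + 1) • (KaehlerDifferential.D R A[X]) (C c) + (((j + 1 : ℕ) : A[X]) * (C c * X ^ j)) • (KaehlerDifferential.D R A[X]) (X : A[X]) := by
  rw [← C_mul_X_pow_eq_monomial, Derivation.leibniz, Derivation.leibniz_pow, Nat.add_sub_cancel,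
    ← Nat.cast_smul_eq_nsmul A[X], smul_smul, smul_smul, add_comm, ← mul_assoc, mul_comm (C c)]

theorem δ_X_pow (j : ℕ) : (KaehlerDifferential.D R A[X]) ((X : A[X]) ^ (j + 1)) = (((j + 1 : ℕ) : A[X]) * X ^ j) • (KaehlerDifferential.D R A[X]) (X : A[X]) := by
  rw [Derivation.leibniz_pow, Nat.add_sub_cancel, ← Nat.cast_smul_eq_nsmul A[X], smul_smul]

theorem δ_C_invSucc (j : ℕ) : (KaehlerDifferential.D R A[X]) (C (invSucc (R := R) (A := A) j)) = 0 := by
  rw [invSucc, show C (algebraMap R A (algebraMap ℚ R _)) = algebraMap R A[X] _ from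
    (IsScalarTower.algebraMap_apply R A A[X] _).symm, Derivation.map_algebraMap]

include hd hd' in
theorem case_incl (q j : ℕ) (ω : ↥(⋀[A]^q (Ω[A⁄R]))) :
    (X : A[X]) ^ j • incl q ω - incl q (evalZero q ((X : A[X]) ^ j • incl q ω)) =
      htpy R A q (d' q ((X : A[X]) ^ j • incl q ω)) := by
  have e1 : d' q ((X : A[X]) ^ j • incl q ω) =
      (X : A[X]) ^ j • incl (q + 1) (d q ω) + wedge q ((KaehlerDifferential.D R A[X]) ((X : A[X]) ^ j)) (incl q ω) := by
    rw [d_smul' hd', d_incl hd hd']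
  have e2 : evalZero q ((X : A[X]) ^ j • incl q ω) = ((X : A[X]) ^ j).eval 0 • ω := by
    rw [evalZero_smul, evalZero_incl]
  rw [e1, e2, AddMonoidHom.map_add, htpy_smul_incl, zero_add]
  cases j with
  | zero =>
    rw [pow_zero, Derivation.map_one_eq_zero, wedge_zero, AddMonoidHom.map_zero, eval_one, one_smul, one_smul,
      sub_self]
  | succ j =>
    have e3 : wedge q ((KaehlerDifferential.D R A[X]) ((X : A[X]) ^ (j + 1))) (incl q ω) =
        (j + 1) • ((X : A[X]) ^ j • wedge q ((KaehlerDifferential.D R A[X]) (X : A[X])) (incl q ω)) := by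
      rw [δ_X_pow, wedge_smul, mul_smul, Nat.cast_smul_eq_nsmul A[X]]
    have e4 : ((j + 1 : ℕ) : A[X]) * monomial (j + 1) (invSucc (R := R) (A := A) j) = X ^ (j + 1) := by
      rw [← map_natCast (C : A →+* A[X]), C_mul_monomial, invSucc_spec, X_pow_eq_monomial]
    rw [e3, AddMonoidHom.map_nsmul, htpy_smul_dX, ← Nat.cast_smul_eq_nsmul A[X], smul_smul, e4, eval_pow, eval_X,
      zero_pow (Nat.succ_ne_zero j), zero_smul, LinearMap.map_zero, sub_zero]

include hd hd' in
theorem case_dX (q j : ℕ) (ω : ↥(⋀[A]^q (Ω[A⁄R]))) :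
    (X : A[X]) ^ j • wedge q ((KaehlerDifferential.D R A[X]) (X : A[X])) (incl q ω) -
        incl (q + 1) (evalZero (q + 1) ((X : A[X]) ^ j • wedge q ((KaehlerDifferential.D R A[X]) (X : A[X])) (incl q ω))) =
      d' q (htpy R A q ((X : A[X]) ^ j • wedge q ((KaehlerDifferential.D R A[X]) (X : A[X])) (incl q ω))) +
        htpy R A (q + 1) (d' (q + 1) ((X : A[X]) ^ j • wedge q ((KaehlerDifferential.D R A[X]) (X : A[X])) (incl q ω))) := by
  have e0 : evalZero (q + 1) ((X : A[X]) ^ j • wedge q ((KaehlerDifferential.D R A[X]) (X : A[X])) (incl q ω)) = 0 := by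
    rw [evalZero_smul, evalZero_dX, smul_zero]
  have hz : wedge (q + 1) ((KaehlerDifferential.D R A[X]) ((X : A[X]) ^ j)) (wedge q ((KaehlerDifferential.D R A[X]) (X : A[X])) (incl q ω)) = 0 := by
    cases j with
    | zero => rw [pow_zero, Derivation.map_one_eq_zero, wedge_zero]
    | succ j => rw [δ_X_pow, wedge_smul, wedge_self, smul_zero]
  have e1 : d' (q + 1) ((X : A[X]) ^ j • wedge q ((KaehlerDifferential.D R A[X]) (X : A[X])) (incl q ω)) =
      -((X : A[X]) ^ j • wedge (q + 1) ((KaehlerDifferential.D R A[X]) (X : A[X])) (incl (q + 1) (d q ω))) := by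
    rw [d_smul' hd', hz, add_zero, d_dX hd', d_incl hd hd', smul_neg]
  have e2 : d' q (monomial (j + 1) (invSucc (R := R) (A := A) j) • incl q ω) =
      monomial (j + 1) (invSucc (R := R) (A := A) j) • incl (q + 1) (d q ω) +
        (X : A[X]) ^ j • wedge q ((KaehlerDifferential.D R A[X]) (X : A[X])) (incl q ω) := by
    rw [d_smul' hd', d_incl hd hd', δ_monomial, δ_C_invSucc, smul_zero, zero_add, wedge_smul, ← mul_assoc,
      ← map_natCast (C : A →+* A[X]), ← map_mul, invSucc_spec, map_one, one_mul]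
  rw [e0, e1, LinearMap.map_zero, sub_zero, htpy_smul_dX, e2, AddMonoidHom.map_neg, htpy_smul_dX]
  abel

include hd hd' in
theorem homotopy_succ (p : ℕ) (y : ↥(⋀[A[X]]^(p + 1) (Ω[A[X]⁄R]))) :
    y - incl (p + 1) (evalZero (p + 1) y) = d' p (htpy R A p y) + htpy R A (p + 1) (d' (p + 1) y) := by
  induction y using induction_std with
  | h0 => simp
  | hadd x y hx hy => simp only [map_add]; rw [add_sub_add_comm, hx, hy]; abel
  | h1 j ω => rw [htpy_smul_incl, LinearMap.map_zero, zero_add]; exact case_incl hd hd' (p + 1) j ω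
  | h2 q he j ω =>
    obtain rfl : q = p := by omega
    exact case_dX hd hd' q j ω

include hd hd' in
theorem homotopy_zero (y : ↥(⋀[A[X]]^0 (Ω[A[X]⁄R]))) :
    y - incl 0 (evalZero 0 y) = htpy R A 0 (d' 0 y) := by
  induction y using induction_std with
  | h0 => simp
  | hadd x y hx hy => simp only [map_add]; rw [add_sub_add_comm, hx, hy]
  | h1 j ω => exact case_incl hd hd' 0 j ω
  | h2 q he => omega

include hd hd' in
theorem quasiIso (i : ℕ) :
    (∀ y ∈ DeRham.cocycles d' i, ∃ x ∈ DeRham.cocycles d i, y - incl i x ∈ DeRham.coboundaries d' i) ∧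
      (∀ x ∈ DeRham.cocycles d i, incl i x ∈ DeRham.coboundaries d' i → x ∈ DeRham.coboundaries d i) := by
  constructor
  · intro y hy
    have hy0 : d' i y = 0 := hy
    refine ⟨evalZero i y, ?_, ?_⟩
    · show d i (evalZero i y) = 0
      rw [← evalZero_d hd hd', hy0, map_zero]
    · cases i with
      | zero =>
        show _ ∈ (⊥ : Submodule R _)
        rw [Submodule.mem_bot, homotopy_zero hd hd', hy0, map_zero]
      | succ i =>
        show _ ∈ LinearMap.range (d' i)
        rw [homotopy_succ hd hd', hy0, map_zero, add_zero]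
        exact ⟨_, rfl⟩
  · intro x _ hx
    cases i with
    | zero =>
      show x ∈ (⊥ : Submodule R _)
      rw [Submodule.mem_bot, ← evalZero_incl 0 x]
      rw [show incl 0 x = 0 from (Submodule.mem_bot R).mp hx, map_zero]
    | succ i =>
      obtain ⟨z, hz⟩ := hx
      refine ⟨evalZero i z, ?_⟩
      rw [← evalZero_d hd hd', hz, evalZero_incl]

end Groth.Agent.DRPoincare.Poly
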